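import Mathlib.RingTheory.DividedPowers.Basic
import Mathlib.RingTheory.Localization.AtPrime.Basic
import Mathlib.Algebra.MvPolynomial.CommRing
import Mathlib.Algebra.Ring.Prod
import Mathlib.Algebra.Algebra.Prod
import Mathlib.Data.Nat.Choose.Lucas
import Mathlib.RingTheory.Ideal.Prod
import Mathlib.Algebra.Algebra.Rat
import Mathlib.Data.Nat.Prime.Factorial

/-! A divided power structure is determined by a map behaving like the `p`-th divided power,
when every integer prime to `p` is invertible. -/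

set_option autoImplicit false
universe u v
open Finset Nat

namespace Groth.Agent.DPow.FromP

/-- `n! / ((n/p)! * p!^(n/p))` -/
def N (p n : ℕ) : ℕ := uniformBell (n / p) p * (p * (n / p) + 1).ascFactorial (n % p)

theorem N_mul {p : ℕ} (hp : p.Prime) (n : ℕ) : N p n * ((n / p)! * p ! ^ (n / p)) = n ! := by
  have h1 := uniformBell_mul_eq (n / p) hp.ne_zero
  have h2 := Nat.factorial_mul_ascFactorial (p * (n / p)) (n % p)
  rw [Nat.div_add_mod] at h2
  rw [mul_comm (n / p) p] at h1
  rw [N, ← h2, ← h1]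
  ring

theorem fac_choose (a b : ℕ) : (a + b).choose a * a ! * b ! = (a + b)! := by
  rw [Nat.choose_symm_add, Nat.add_choose_mul_factorial_mul_factorial]

theorem N_spec {p : ℕ} (hp : p.Prime) (m r : ℕ) (hr : r < p) :
    N p (p * m + r) * (m ! * p ! ^ m) = (p * m + r)! := by
  have h := N_mul hp (p * m + r)
  rwa [Nat.mul_add_div hp.pos, Nat.div_eq_of_lt hr, add_zero] at h

theorem not_dvd_ascFactorial {p : ℕ} (hp : p.Prime) (m : ℕ) :
    ∀ r, r < p → ¬ p ∣ (p * m + 1).ascFactorial r := by
  intro r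
  induction r with
  | zero => intro _; simp [hp.ne_one]
  | succ r ih =>
    intro hr
    rw [Nat.ascFactorial_succ, hp.dvd_mul]
    rintro (h | h)
    · rw [add_assoc, Nat.dvd_add_right (dvd_mul_right p m)] at h
      exact absurd (Nat.le_of_dvd (by omega) h) (by omega)
    · exact ih (by omega) h

theorem not_dvd_uniformBell {p : ℕ} (hp : p.Prime) (m : ℕ) : ¬ p ∣ uniformBell m p := by
  haveI := Fact.mk hp
  induction m with
  | zero => simp [uniformBell_zero_left, hp.ne_one]
  | succ m ih =>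
    rw [uniformBell_succ_left, hp.dvd_mul]
    rintro (h | h)
    · have h1 := @Choose.choose_modEq_choose_mod_mul_choose_div_nat (m * p + p - 1) (p - 1) p _
      have e : m * p + p - 1 = (p - 1) + m * p := by have := hp.two_le; omega
      have hlt : p - 1 < p := by have := hp.two_le; omega
      rw [e] at h h1
      rw [Nat.add_mul_mod_self_right, Nat.mod_eq_of_lt hlt, Nat.choose_self, Nat.div_eq_of_lt hlt,
        Nat.choose_zero_right, mul_one] at h1
      exact hp.not_dvd_one (h1.dvd_iff dvd_rfl |>.1 h)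
    · exact ih h

theorem not_dvd_N {p : ℕ} (hp : p.Prime) (n : ℕ) : ¬ p ∣ N p n := by
  rw [N, hp.dvd_mul]
  rintro (h | h)
  · exact not_dvd_uniformBell hp _ h
  · exact not_dvd_ascFactorial hp _ _ (Nat.mod_lt n hp.pos) h

/-- divided powers built from a `p`-th one -/
noncomputable def F {A : Type u} [CommRing A] (p : ℕ) (d : A → A) (n : ℕ) (x : A) : A :=
  if _h : n = 0 ∨ p < 2 then 1 else Ring.inverse (N p n : A) * x ^ (n % p) * F p d (n / p) (d x)
termination_by n
decreasing_by exact Nat.div_lt_self (by omega) (by omega)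

/-- an ideal with a `p`-th divided power map -/
structure Sys (p : ℕ) (A : Type u) [CommRing A] where
  I : Ideal A
  d : A → A
  hA : ∀ n : ℕ, ¬ p ∣ n → IsUnit (n : A)
  hdI : ∀ x ∈ I, d x ∈ I
  h1 : ∀ x ∈ I, (p ! : A) * d x = x ^ p
  h2 : ∀ (a x : A), x ∈ I → d (a * x) = a ^ p * d x
  h3 : ∀ x ∈ I, ∀ y ∈ I, d (x + y) = d x + d y +
      ((antidiagonal p).filter fun k => 0 < k.1 ∧ 0 < k.2).sum
        fun k => Ring.inverse ((k.1 ! * k.2 ! : ℕ) : A) * x ^ k.1 * y ^ k.2

namespace Sys

variable {A : Type u} [CommRing A] {p : ℕ} (hp : p.Prime) (S : Sys p A)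

theorem F_zero (x : A) : F p S.d 0 x = 1 := by rw [F]; simp

include hp S

theorem F_eq (n : ℕ) (x : A) :
    F p S.d n x = Ring.inverse (N p n : A) * x ^ (n % p) * F p S.d (n / p) (S.d x) := by
  rcases Nat.eq_zero_or_pos n with rfl | hn
  · simp [F_zero, N, uniformBell_zero_left]
  · rw [F, dif_neg]
    have := hp.two_le
    omega

theorem N_isUnit (n : ℕ) : IsUnit (N p n : A) := S.hA _ (not_dvd_N hp n)

theorem N_mul_F (m r : ℕ) (hr : r < p) (x : A) :
    (N p (p * m + r) : A) * F p S.d (p * m + r) x = x ^ r * F p S.d m (S.d x) := by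
  rw [S.F_eq hp (p * m + r) x, Nat.mul_add_div hp.pos, Nat.div_eq_of_lt hr, add_zero, Nat.mul_add_mod,
    Nat.mod_eq_of_lt hr, ← mul_assoc, ← mul_assoc, Ring.mul_inverse_cancel _ (S.N_isUnit hp _), one_mul]

theorem F_one (x : A) : F p S.d 1 x = x := by
  rw [S.F_eq hp, Nat.mod_eq_of_lt hp.one_lt, Nat.div_eq_of_lt hp.one_lt, F_zero, pow_one, mul_one,
    N, Nat.div_eq_of_lt hp.one_lt, Nat.mod_eq_of_lt hp.one_lt]
  simp [uniformBell_zero_left, Nat.ascFactorial_succ, Nat.ascFactorial_zero]

theorem F_p (x : A) : F p S.d p x = S.d x := by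
  rw [S.F_eq hp, Nat.mod_self, Nat.div_self hp.pos, F_one hp S, pow_zero, mul_one, N, Nat.div_self hp.pos,
    Nat.mod_self]
  simp [uniformBell_one_left]

theorem fac_mul_F (n : ℕ) : ∀ x ∈ S.I, (n ! : A) * F p S.d n x = x ^ n := by
  induction n using Nat.strong_induction_on with
  | _ n ih =>
    intro x hx
    rcases Nat.eq_zero_or_pos n with rfl | hn
    · simp [F_zero]
    obtain ⟨m, r, hr, rfl⟩ : ∃ m r, r < p ∧ n = p * m + r :=
      ⟨n / p, n % p, Nat.mod_lt _ hp.pos, (Nat.div_add_mod n p).symm⟩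
    have hlt : m < p * m + r := by
      rcases Nat.eq_zero_or_pos m with rfl | hm
      · simpa using hn
      · nlinarith [hp.two_le]
    rw [← N_spec hp m r hr]
    push_cast
    calc (N p (p * m + r) : A) * ((m ! : A) * (p ! : A) ^ m) * F p S.d (p * m + r) x
        = (p ! : A) ^ m * ((m ! : A) * ((N p (p * m + r) : A) * F p S.d (p * m + r) x)) := by ring
      _ = (p ! : A) ^ m * (x ^ r * ((m ! : A) * F p S.d m (S.d x))) := by rw [S.N_mul_F hp m r hr]; ring
      _ = x ^ r * ((p ! : A) * S.d x) ^ m := by rw [ih m hlt _ (S.hdI x hx)]; ring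
      _ = x ^ (p * m + r) := by rw [S.h1 x hx, ← pow_mul, ← pow_add, add_comm]

theorem F_mem (n : ℕ) : ∀ x ∈ S.I, n ≠ 0 → F p S.d n x ∈ S.I := by
  induction n using Nat.strong_induction_on with
  | _ n ih =>
    intro x hx hn
    rw [S.F_eq hp n x]
    rcases Nat.eq_zero_or_pos (n % p) with h | h
    · refine Ideal.mul_mem_left _ _ (ih _ (Nat.div_lt_self (by omega) hp.one_lt) _ (S.hdI x hx) ?_)
      intro h0
      have := Nat.div_add_mod n p
      rw [h0, h, mul_zero, add_zero] at this
      exact hn this.symm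
    · exact Ideal.mul_mem_right _ _ (Ideal.mul_mem_left _ _ (Ideal.pow_mem_of_mem _ hx _ h))

theorem F_smul (n : ℕ) : ∀ (a x : A), x ∈ S.I → F p S.d n (a * x) = a ^ n * F p S.d n x := by
  induction n using Nat.strong_induction_on with
  | _ n ih =>
    intro a x hx
    rcases Nat.eq_zero_or_pos n with rfl | hn
    · simp [F_zero]
    rw [S.F_eq hp n, S.F_eq hp n x, S.h2 a x hx, ih _ (Nat.div_lt_self hn hp.one_lt) _ _ (S.hdI x hx)]
    calc _ = a ^ (p * (n / p) + n % p) *
          (Ring.inverse (N p n : A) * x ^ (n % p) * F p S.d (n / p) (S.d x)) := by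
            rw [mul_pow, ← pow_mul, pow_add]; ring
      _ = _ := by rw [Nat.div_add_mod]

theorem F_mul (k : ℕ) : ∀ x ∈ S.I, ∀ a b, a + b = k →
    F p S.d a x * F p S.d b x = ((a + b).choose a : A) * F p S.d (a + b) x := by
  induction k using Nat.strong_induction_on with
  | _ k ih =>
    intro x hx a b hab
    rcases Nat.eq_zero_or_pos k with rfl | hk
    · obtain ⟨rfl, rfl⟩ : a = 0 ∧ b = 0 := by omega
      simp [F_zero]
    obtain ⟨m, r, hr, rfl⟩ : ∃ m r, r < p ∧ a = p * m + r :=
      ⟨a / p, a % p, Nat.mod_lt _ hp.pos, (Nat.div_add_mod a p).symm⟩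
    obtain ⟨m', r', hr', rfl⟩ : ∃ m r, r < p ∧ b = p * m + r :=
      ⟨b / p, b % p, Nat.mod_lt _ hp.pos, (Nat.div_add_mod b p).symm⟩
    have hdx := S.hdI x hx
    have hlt : m + m' < k := by
      rcases Nat.eq_zero_or_pos (m + m') with h | h
      · omega
      · nlinarith [hp.two_le]
    have e : ((N p (p * m + r) : A) * (N p (p * m' + r') : A)) *
        (F p S.d (p * m + r) x * F p S.d (p * m' + r') x) =
        x ^ (r + r') * ((((m + m').choose m : ℕ) : A) * F p S.d (m + m') (S.d x)) := by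
      rw [← ih _ hlt _ hdx m m' rfl, mul_mul_mul_comm, S.N_mul_F hp m r hr, S.N_mul_F hp m' r' hr', pow_add]
      ring
    apply ((S.N_isUnit hp (p * m + r)).mul (S.N_isUnit hp (p * m' + r'))).mul_right_inj.1
    rw [e]
    have hfac : ∀ a b : ℕ, (a + b).choose a * a ! * b ! = (a + b)! := fun a b => fac_choose a b
    rcases Nat.lt_or_ge (r + r') p with hlt' | hge
    · have hn : p * m + r + (p * m' + r') = p * (m + m') + (r + r') := by ring
      rw [hn]
      have hnat : (m + m').choose m * N p (p * (m + m') + (r + r')) =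
          N p (p * m + r) * N p (p * m' + r') * (p * (m + m') + (r + r')).choose (p * m + r) := by
        apply Nat.eq_of_mul_eq_mul_right (show 0 < m ! * m' ! * p ! ^ (m + m') by positivity)
        calc (m + m').choose m * N p (p * (m + m') + (r + r')) * (m ! * m' ! * p ! ^ (m + m'))
            = N p (p * (m + m') + (r + r')) * (((m + m').choose m * m ! * m' !) * p ! ^ (m + m')) := by ring
          _ = (p * (m + m') + (r + r'))! := by rw [hfac, N_spec hp (m + m') (r + r') hlt']
          _ = (p * m + r + (p * m' + r')).choose (p * m + r) * (p * m + r)! * (p * m' + r')! := by rw [hfac, hn]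
          _ = _ := by rw [hn, ← N_spec hp m r hr, ← N_spec hp m' r' hr', pow_add]; ring
      calc _ = (((m + m').choose m : ℕ) : A) *
            ((N p (p * (m + m') + (r + r')) : A) * F p S.d (p * (m + m') + (r + r')) x) := by
              rw [S.N_mul_F hp _ _ hlt']; ring
        _ = (((m + m').choose m * N p (p * (m + m') + (r + r')) : ℕ) : A) * F p S.d (p * (m + m') + (r + r')) x := by
              push_cast; ring
        _ = _ := by rw [hnat]; push_cast; ring
    · obtain ⟨s, hs⟩ : ∃ s, r + r' = p + s := ⟨r + r' - p, by omega⟩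
      have hsp : s < p := by omega
      have hn : p * m + r + (p * m' + r') = p * (m + m' + 1) + s := by
        calc p * m + r + (p * m' + r') = p * (m + m') + (r + r') := by ring
          _ = _ := by rw [hs]; ring
      rw [hn]
      have hlt2 : m + m' + 1 < k := by nlinarith [hp.two_le]
      have hnat : (m + m').choose m * p ! * (m + m' + 1) * N p (p * (m + m' + 1) + s) =
          N p (p * m + r) * N p (p * m' + r') * (p * (m + m' + 1) + s).choose (p * m + r) := by
        apply Nat.eq_of_mul_eq_mul_right (show 0 < m ! * m' ! * p ! ^ (m + m') by positivity)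
        calc (m + m').choose m * p ! * (m + m' + 1) * N p (p * (m + m' + 1) + s) * (m ! * m' ! * p ! ^ (m + m'))
            = N p (p * (m + m' + 1) + s) * (((m + m' + 1) * ((m + m').choose m * m ! * m' !)) * p ! ^ (m + m' + 1)) := by ring
          _ = (p * (m + m' + 1) + s)! := by rw [hfac, ← Nat.factorial_succ, N_spec hp (m + m' + 1) s hsp]
          _ = (p * m + r + (p * m' + r')).choose (p * m + r) * (p * m + r)! * (p * m' + r')! := by rw [hfac, hn]
          _ = _ := by rw [hn, ← N_spec hp m r hr, ← N_spec hp m' r' hr', pow_add]; ring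
      have hxp : x ^ (r + r') * F p S.d (m + m') (S.d x) =
          x ^ s * ((p ! : A) * ((m + m' + 1 : ℕ) : A)) * F p S.d (m + m' + 1) (S.d x) := by
        have h := ih _ hlt2 _ hdx (m + m') 1 rfl
        rw [F_one hp S, Nat.choose_succ_self_right] at h
        calc x ^ (r + r') * F p S.d (m + m') (S.d x)
            = x ^ s * (p ! : A) * (F p S.d (m + m') (S.d x) * S.d x) := by
              rw [hs, pow_add, ← S.h1 x hx]; ring
          _ = _ := by rw [h]; ring
      calc _ = (((m + m').choose m : ℕ) : A) * (x ^ s * ((p ! : A) * ((m + m' + 1 : ℕ) : A)) * F p S.d (m + m' + 1) (S.d x)) := by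
              rw [← hxp]; ring
        _ = (((m + m').choose m : ℕ) : A) * ((p ! : A) * ((m + m' + 1 : ℕ) : A)) *
            ((N p (p * (m + m' + 1) + s) : A) * F p S.d (p * (m + m' + 1) + s) x) := by
              rw [S.N_mul_F hp _ _ hsp]; ring
        _ = (((m + m').choose m * p ! * (m + m' + 1) * N p (p * (m + m' + 1) + s) : ℕ) : A) *
            F p S.d (p * (m + m' + 1) + s) x := by push_cast; ring
        _ = _ := by rw [hnat]; push_cast; ring

theorem F_pow {m : ℕ} {x : A} (hx : x ∈ S.I) :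
    ∀ k : ℕ, ∃ c : ℕ, c * m ! ^ k = (k * m)! ∧ F p S.d m x ^ k = (c : A) * F p S.d (k * m) x := by
  intro k
  induction k with
  | zero => exact ⟨1, by simp, by simp [F_zero]⟩
  | succ k ih =>
    obtain ⟨c, hc, he⟩ := ih
    refine ⟨c * (k * m + m).choose (k * m), ?_, ?_⟩
    · rw [Nat.succ_mul, ← fac_choose (k * m) m, ← hc, pow_succ]; ring
    · rw [pow_succ, he, Nat.succ_mul, mul_assoc, F_mul hp S _ x hx _ _ rfl]
      push_cast; ring

theorem d_F (n : ℕ) : ∀ x ∈ S.I, n ≠ 0 → S.d (F p S.d n x) = (uniformBell p n : A) * F p S.d (p * n) x := by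
  induction n using Nat.strong_induction_on with
  | _ n ih =>
    intro x hx hn
    obtain ⟨m, r, hr, rfl⟩ : ∃ m r, r < p ∧ n = p * m + r :=
      ⟨n / p, n % p, Nat.mod_lt _ hp.pos, (Nat.div_add_mod n p).symm⟩
    have hdx := S.hdI x hx
    have hFn : F p S.d (p * m + r) x ∈ S.I := S.F_mem hp _ x hx hn
    have hN := S.N_mul_F hp m r hr x
    have hNp : (N p (p * (p * m + r)) : A) * F p S.d (p * (p * m + r)) x = F p S.d (p * m + r) (S.d x) := by
      simpa using S.N_mul_F hp (p * m + r) 0 hp.pos x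
    apply ((S.N_isUnit hp (p * m + r)).pow p).mul_right_inj.1
    rw [← S.h2 _ _ hFn, hN]
    have hbell := uniformBell_mul_eq p hn
    rcases Nat.eq_zero_or_pos r with rfl | hr0
    · have hm : m ≠ 0 := by rintro rfl; simp at hn
      have hlt : m < p * m + 0 := by nlinarith [hp.two_le, Nat.pos_of_ne_zero hm]
      rw [pow_zero, one_mul, ih m hlt _ hdx hm]
      rw [add_zero] at hNp ⊢ hbell
      rw [← hNp]
      have hnat : uniformBell p m * N p (p * (p * m)) = N p (p * m) ^ p * uniformBell p (p * m) := by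
        apply Nat.eq_of_mul_eq_mul_right (show 0 < p ! * m ! ^ p * p ! ^ (p * m) by positivity)
        calc uniformBell p m * N p (p * (p * m)) * (p ! * m ! ^ p * p ! ^ (p * m))
            = N p (p * (p * m)) * ((uniformBell p m * m ! ^ p * p !) * p ! ^ (p * m)) := by ring
          _ = (p * (p * m))! := by
              rw [uniformBell_mul_eq p hm]
              have := N_spec hp (p * m) 0 hp.pos
              rwa [add_zero] at this
          _ = uniformBell p (p * m) * (N p (p * m) * (m ! * p ! ^ m)) ^ p * p ! := by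
              have h0 := N_spec hp m 0 hp.pos
              rw [add_zero] at h0
              rw [h0, hbell]
          _ = _ := by rw [mul_pow, mul_pow, ← pow_mul, mul_comm m p]; ring
      calc _ = ((uniformBell p m * N p (p * (p * m)) : ℕ) : A) * F p S.d (p * (p * m)) x := by push_cast; ring
        _ = _ := by rw [hnat]; push_cast; ring
    · obtain ⟨t, rfl⟩ : ∃ t, r = t + 1 := ⟨r - 1, by omega⟩
      obtain ⟨c, hc, hcF⟩ := F_pow hp S (m := m) hdx p
      have h5 := fac_mul_F hp S (t + 1) _ hdx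
      have h6 := F_mul hp S _ _ hdx (p * m) (t + 1) rfl
      have hnat : p ! ^ t * c * (t + 1)! * (p * m + (t + 1)).choose (p * m) * N p (p * (p * m + (t + 1))) =
          N p (p * m + (t + 1)) ^ p * uniformBell p (p * m + (t + 1)) := by
        apply Nat.eq_of_mul_eq_mul_right (show 0 < p ! * m ! ^ p * p ! ^ (p * m) by positivity)
        calc p ! ^ t * c * (t + 1)! * (p * m + (t + 1)).choose (p * m) * N p (p * (p * m + (t + 1))) *
              (p ! * m ! ^ p * p ! ^ (p * m))
            = N p (p * (p * m + (t + 1))) * (((p * m + (t + 1)).choose (p * m) * (c * m ! ^ p) * (t + 1)!) *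
                p ! ^ (p * m + (t + 1))) := by rw [pow_add _ (p * m), pow_succ]; ring
          _ = (p * (p * m + (t + 1)))! := by
              rw [hc, fac_choose]
              have := N_spec hp (p * m + (t + 1)) 0 hp.pos
              rwa [add_zero] at this
          _ = uniformBell p (p * m + (t + 1)) * (N p (p * m + (t + 1)) * (m ! * p ! ^ m)) ^ p * p ! := by
              rw [N_spec hp m (t + 1) hr, hbell]
          _ = _ := by rw [mul_pow, mul_pow, ← pow_mul, mul_comm m p]; ring
      calc S.d (x ^ (t + 1) * F p S.d m (S.d x)) = S.d ((x ^ t * F p S.d m (S.d x)) * x) := by rw [pow_succ]; ring_nf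
        _ = (x ^ p) ^ t * F p S.d m (S.d x) ^ p * S.d x := by rw [S.h2 _ _ hx, mul_pow, ← pow_mul, ← pow_mul, mul_comm t p]
        _ = (p ! : A) ^ t * (c : A) * (F p S.d (p * m) (S.d x) * S.d x ^ (t + 1)) := by
            rw [← S.h1 x hx, hcF]; ring
        _ = (p ! : A) ^ t * (c : A) * ((t + 1)! : A) * (F p S.d (p * m) (S.d x) * F p S.d (t + 1) (S.d x)) := by
            rw [← h5]; ring
        _ = ((p ! ^ t * c * (t + 1)! * (p * m + (t + 1)).choose (p * m) * N p (p * (p * m + (t + 1))) : ℕ) : A) *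
            F p S.d (p * (p * m + (t + 1))) x := by
            rw [h6, ← hNp]; push_cast; ring
        _ = _ := by rw [hnat]; push_cast; ring

omit hp S in
theorem map_inverse {B : Type v} [CommRing B] (f : A →+* B) {a : A} (ha : IsUnit a) :
    f (Ring.inverse a) = Ring.inverse (f a) := by
  obtain ⟨u, rfl⟩ := ha
  rw [Ring.inverse_unit]
  exact (Ring.inverse_unit (u.map f.toMonoidHom)).symm

theorem F_map {B : Type v} [CommRing B] (S' : Sys p B) (f : A →+* B) (hI : ∀ x ∈ S.I, f x ∈ S'.I)
    (hd : ∀ x ∈ S.I, f (S.d x) = S'.d (f x)) (n : ℕ) :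
    ∀ x ∈ S.I, f (F p S.d n x) = F p S'.d n (f x) := by
  induction n using Nat.strong_induction_on with
  | _ n ih =>
    intro x hx
    rcases Nat.eq_zero_or_pos n with rfl | hn
    · simp [F_zero]
    rw [S.F_eq hp n x, S'.F_eq hp n (f x), map_mul, map_mul, map_pow,
      map_inverse f (S.N_isUnit hp n), map_natCast, ih _ (Nat.div_lt_self hn hp.one_lt) _ (S.hdI x hx), hd x hx]

/-! closure properties of the span of the products `F a x * F b y` -/

variable {L : Type v} [CommRing L] [Algebra L A]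

/-- spanning elements -/
noncomputable def gen (x y : A) (k : ℕ × ℕ) : A := F p S.d k.1 x * F p S.d k.2 y

omit hp in
theorem gen_def (x y : A) (k : ℕ × ℕ) : S.gen x y k = F p S.d k.1 x * F p S.d k.2 y := rfl

theorem gen_mul {x y : A} (hx : x ∈ S.I) (hy : y ∈ S.I) (k l : ℕ × ℕ) :
    S.gen x y k * S.gen x y l =
      ((((k.1 + l.1).choose k.1 * (k.2 + l.2).choose k.2 : ℕ)) : L) • S.gen x y (k + l) := by
  rw [gen_def, gen_def, gen_def, Algebra.smul_def, map_natCast, mul_mul_mul_comm,
    F_mul hp S _ x hx _ _ rfl, F_mul hp S _ y hy _ _ rfl]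
  push_cast
  rw [Prod.fst_add, Prod.snd_add]
  ring

omit hp in
/-- the span -/
noncomputable def spn (L : Type v) [CommRing L] [Algebra L A] (x y : A) (s : Set (ℕ × ℕ)) : Submodule L A :=
  Submodule.span L (S.gen x y '' s)

theorem spn_mul {x y : A} (hx : x ∈ S.I) (hy : y ∈ S.I) (s t : Set (ℕ × ℕ))
    (hst : ∀ k, ∀ l ∈ t, k + l ∈ s) {z w : A} (hz : z ∈ S.spn L x y Set.univ) (hw : w ∈ S.spn L x y t) :
    z * w ∈ S.spn L x y s := by
  refine (show S.spn L x y Set.univ * S.spn L x y t ≤ S.spn L x y s from ?_) (Submodule.mul_mem_mul hz hw)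
  rw [spn, spn, Submodule.span_mul_span, Submodule.span_le]
  rintro _ ⟨_, ⟨k, -, rfl⟩, _, ⟨l, hl, rfl⟩, rfl⟩
  show S.gen x y k * S.gen x y l ∈ _
  rw [S.gen_mul (L := L) hp hx hy]
  exact Submodule.smul_mem _ _ (Submodule.subset_span ⟨_, hst k l hl, rfl⟩)

omit hp S in
theorem algebraMap_inverse (hL : ∀ n : ℕ, ¬ p ∣ n → IsUnit (n : L)) {n : ℕ} (hn : ¬ p ∣ n) :
    Ring.inverse (n : A) = algebraMap L A (Ring.inverse (n : L)) := by
  rw [map_inverse _ (hL n hn), map_natCast]

theorem closure {x y : A} (hx : x ∈ S.I) (hy : y ∈ S.I) (hL : ∀ n : ℕ, ¬ p ∣ n → IsUnit (n : L)) (n : ℕ) :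
    ∀ z ∈ S.spn L x y {k | k ≠ 0}, z ∈ S.I ∧ F p S.d n z ∈ S.spn L x y Set.univ := by
  let P := S.spn L x y {k | k ≠ 0}
  let U := S.spn L x y Set.univ
  have hPU : P ≤ U := Submodule.span_mono (Set.image_mono (Set.subset_univ _))
  have hadd : ∀ k l : ℕ × ℕ, l ∈ ({k | k ≠ 0} : Set (ℕ × ℕ)) → k + l ∈ ({k | k ≠ 0} : Set (ℕ × ℕ)) := by
    intro k l hl h
    have h1 : k.1 + l.1 = 0 := congrArg Prod.fst h
    have h2 : k.2 + l.2 = 0 := congrArg Prod.snd h
    exact hl (Prod.ext (by simp only [Prod.fst_zero]; omega) (by simp only [Prod.snd_zero]; omega))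
  have hmulP : ∀ {z w : A}, z ∈ U → w ∈ P → z * w ∈ P := fun hz hw =>
    S.spn_mul hp hx hy {k | k ≠ 0} {k | k ≠ 0} hadd hz hw
  have hmulU : ∀ {z w : A}, z ∈ U → w ∈ U → z * w ∈ U := fun hz hw =>
    S.spn_mul hp hx hy Set.univ Set.univ (fun _ _ _ => trivial) hz hw
  have hone : (1 : A) ∈ U := Submodule.subset_span ⟨0, trivial, by simp [gen_def, F_zero]⟩
  have hpow : ∀ {z : A}, z ∈ U → ∀ i : ℕ, z ^ i ∈ U := by
    intro z hz i
    induction i with
    | zero => rwa [pow_zero]
    | succ i ih => rw [pow_succ]; exact hmulU ih hz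
  have hd : ∀ z ∈ P, z ∈ S.I ∧ S.d z ∈ P := by
    intro z hz
    refine Submodule.span_induction (p := fun z _ => z ∈ S.I ∧ S.d z ∈ P) ?_ ?_ ?_ ?_ hz
    · rintro _ ⟨⟨a, b⟩, hab, rfl⟩
      rw [gen_def]
      rcases Nat.eq_zero_or_pos a with rfl | ha
      · have hb : b ≠ 0 := fun h => hab (Prod.ext rfl h)
        have hm := S.F_mem hp b y hy hb
        rw [F_zero, one_mul]
        refine ⟨hm, ?_⟩
        rw [S.d_F hp b y hy hb]
        have h := Submodule.subset_span (R := L) (s := S.gen x y '' {k | k ≠ 0})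
          ⟨(0, p * b), by simp [hp.ne_zero, hb], rfl⟩
        have h' := Submodule.smul_mem _ ((uniformBell p b : ℕ) : L) h
        rwa [gen_def, F_zero, one_mul, Algebra.smul_def, map_natCast] at h'
      · have hm := S.F_mem hp a x hx ha.ne'
        refine ⟨Ideal.mul_mem_right _ _ hm, ?_⟩
        dsimp only
        rw [mul_comm, S.h2 _ _ hm, S.d_F hp a x hx ha.ne']
        refine hmulP (hpow (Submodule.subset_span ⟨(0, b), trivial, by simp [gen_def, F_zero]⟩) p) ?_
        have h := Submodule.subset_span (R := L) (s := S.gen x y '' {k | k ≠ 0})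
          ⟨(p * a, 0), by simp [hp.ne_zero, ha.ne'], rfl⟩
        have h' := Submodule.smul_mem _ ((uniformBell p a : ℕ) : L) h
        rwa [gen_def, F_zero, mul_one, Algebra.smul_def, map_natCast] at h'
    · have h0 := S.h2 0 0 S.I.zero_mem
      rw [zero_pow hp.ne_zero, zero_mul, zero_mul] at h0
      exact ⟨zero_mem _, by rw [h0]; exact zero_mem _⟩
    · rintro z w hz' hw' ⟨hzI, hzd⟩ ⟨hwI, hwd⟩
      refine ⟨add_mem hzI hwI, ?_⟩
      rw [S.h3 z hzI w hwI]
      refine add_mem (add_mem hzd hwd) (Submodule.sum_mem _ fun k hk => ?_)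
      simp only [mem_filter, HasAntidiagonal.mem_antidiagonal] at hk
      have hndvd : ¬ p ∣ k.1 ! * k.2 ! := by
        rw [Nat.Prime.dvd_mul hp, Nat.Prime.dvd_factorial hp, Nat.Prime.dvd_factorial hp]; omega
      rw [algebraMap_inverse (L := L) hL hndvd, mul_assoc, ← Algebra.smul_def]
      refine Submodule.smul_mem _ _ ?_
      obtain ⟨j, hj⟩ : ∃ j, k.2 = j + 1 := ⟨k.2 - 1, by omega⟩
      rw [hj, pow_succ, ← mul_assoc]
      exact hmulP (hmulU (hpow (hPU hz') _) (hpow (hPU hw') _)) hw'
    · rintro c z - ⟨hzI, hzd⟩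
      rw [Algebra.smul_def]
      refine ⟨Ideal.mul_mem_left _ _ hzI, ?_⟩
      rw [S.h2 _ _ hzI, ← map_pow, ← Algebra.smul_def]
      exact Submodule.smul_mem _ _ hzd
  induction n using Nat.strong_induction_on with
  | _ n ih =>
    intro z hz
    refine ⟨(hd z hz).1, ?_⟩
    rcases Nat.eq_zero_or_pos n with rfl | hn
    · rwa [F_zero]
    rw [S.F_eq hp n z, mul_assoc, algebraMap_inverse (L := L) hL (not_dvd_N hp n), ← Algebra.smul_def]
    exact Submodule.smul_mem _ _ (hmulU (hpow (hPU hz) _) (ih _ (Nat.div_lt_self hn hp.one_lt) _ (hd z hz).2).2)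

end Sys
end Groth.Agent.DPow.FromP
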